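import Groth.Agent.FlatStrat.Alg
import Groth.Agent.CAlgOdd.FlatDescFinite

/-!
Descent of flatness of finitely presented modules along injective integral maps.
-/

set_option autoImplicit false
set_option linter.style.haveILetI false
universe u

open MvPolynomial TensorProduct
open Groth.Agent.FlatModel Groth.Agent.FlatStrat

namespace Groth.Agent.H1IntFlat

variable {a n : ℕ} {R₀ R S : Type u} [CommRing R₀] [IsNoetherianRing R₀] [CommRing R] [CommRing S]
  [Algebra R₀ R] [Algebra R₀ S] [Algebra R S] [IsScalarTower R₀ R S] [Algebra.IsIntegral R S]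
  (K₀ : Submodule (MvPolynomial (Fin n) R₀) (V a n R₀))

theorem flat_quot_iff (R' : Type u) [CommRing R'] [Algebra R₀ R'] :
    FlatC K₀ R' ↔ Module.Flat R' (Quot' K₀ R') := by
  rw [flatC_iff_flat]
  exact ⟨fun _ => Module.Flat.of_linearEquiv (Submodule.Quotient.restrictScalarsEquiv R' (KK K₀ R')),
    fun _ => Module.Flat.of_linearEquiv (Submodule.Quotient.restrictScalarsEquiv R' (KK K₀ R')).symm⟩

theorem flat_quot_descend (hinj : Function.Injective (algebraMap R S)) (h : FlatC K₀ S) :
    Module.Flat R (Quot' K₀ R) := by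
  classical
  obtain ⟨R₁, hR₁, hR₁F⟩ := exists_fg_flatC K₀ h
  obtain ⟨t, ht⟩ := hR₁
  have hint : ∀ y : S, ∃ p : Polynomial R, p.Monic ∧ Polynomial.aeval y p = 0 := fun y =>
    Algebra.IsIntegral.isIntegral y
  choose P hPm hP using hint
  let c : Finset R := t.biUnion fun y => (P y).support.image (P y).coeff
  let L : Subalgebra R₀ R := Algebra.adjoin R₀ (c : Set R)
  haveI : Algebra.FiniteType R₀ L := (Subalgebra.fg_iff_finiteType L).1 (Subalgebra.fg_adjoin_finset c)
  haveI : IsNoetherianRing L := Algebra.FiniteType.isNoetherianRing R₀ L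
  let T : Subalgebra L S := Algebra.adjoin L (t : Set S)
  have hint' : ∀ y ∈ (t : Set S), IsIntegral L y := by
    intro y hy
    have hc : ∀ k, (P y).coeff k ∈ L.toSubring := fun k => by
      by_cases hk : k ∈ (P y).support
      · exact Algebra.subset_adjoin (Finset.mem_biUnion.2 ⟨y, hy, Finset.mem_image.2 ⟨k, hk, rfl⟩⟩)
      · rw [Polynomial.notMem_support_iff.1 hk]; exact L.zero_mem
    refine ⟨(P y).toSubring L.toSubring (fun r hr => by
      obtain ⟨k, -, rfl⟩ := Polynomial.mem_coeffs_iff.1 hr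
      exact hc k), (Polynomial.monic_toSubring _ _ _).2 (hPm y), ?_⟩
    have := hP y
    rw [Polynomial.aeval_def, ← Polynomial.map_toSubring (P y) L.toSubring (fun r hr => by
      obtain ⟨k, -, rfl⟩ := Polynomial.mem_coeffs_iff.1 hr
      exact hc k), Polynomial.eval₂_map] at this
    exact this
  haveI : Module.Finite L T := Module.Finite.iff_fg.2 (fg_adjoin_of_finite t.finite_toSet hint')
  have hle : R₁ ≤ T.restrictScalars R₀ := by
    rw [← ht]
    exact Algebra.adjoin_le Algebra.subset_adjoin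
  letI : Algebra R₁ T := (Subalgebra.inclusion hle).toRingHom.toAlgebra
  haveI : IsScalarTower R₀ R₁ T := IsScalarTower.of_algebraMap_eq fun r => Subtype.ext rfl
  haveI : Module.Flat R₁ (Quot' K₀ R₁) := (flat_quot_iff K₀ R₁).1 hR₁F
  obtain ⟨e₁⟩ := nonempty_quot_baseChange (R := R₁) (R' := T) K₀
  haveI : Module.Flat T (Quot' K₀ T) := Module.Flat.of_linearEquiv e₁.symm
  obtain ⟨e₂⟩ := nonempty_quot_baseChange (R := L) (R' := T) K₀
  haveI : Module.Flat T (T ⊗[L] Quot' K₀ L) := Module.Flat.of_linearEquiv e₂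
  have hinj' : Function.Injective (algebraMap L T) := fun x y hxy =>
    Subtype.ext (hinj (congrArg Subtype.val hxy))
  haveI : Module.Flat L (Quot' K₀ L) := CAlgOdd.FlatDesc.flat_of_finite_injective (Quot' K₀ L) T hinj'
  obtain ⟨e₃⟩ := nonempty_quot_baseChange (R := L) (R' := R) K₀
  exact Module.Flat.of_linearEquiv e₃.symm

end Groth.Agent.H1IntFlat
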