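import Groth.Agent.H1IntFlat.Basic

/-!
Modules finitely presented over a polynomial ring come from a Noetherian model.
-/

set_option autoImplicit false
set_option linter.style.haveILetI false
universe u

open MvPolynomial TensorProduct
open Groth.Agent.FlatModel Groth.Agent.FlatStrat

namespace Groth.Agent.H1IntFlat

theorem exists_quot_equiv {A₀ : Type u} [CommRing A₀] {n : ℕ} (M₀ : Type u) [AddCommGroup M₀]
    [Module (MvPolynomial (Fin n) A₀) M₀] [Module A₀ M₀] [IsScalarTower A₀ (MvPolynomial (Fin n) A₀) M₀]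
    [Module.FinitePresentation (MvPolynomial (Fin n) A₀) M₀] :
    ∃ (a : ℕ) (R₀ : Subalgebra ℤ A₀) (_ : IsNoetherianRing R₀)
      (K₀ : Submodule (MvPolynomial (Fin n) R₀) (V a n R₀)), Nonempty (Quot' K₀ A₀ ≃ₗ[A₀] M₀) := by
  classical
  obtain ⟨a, π, hπ⟩ := Module.Finite.exists_fin' (MvPolynomial (Fin n) A₀) M₀
  obtain ⟨S, hS⟩ := Module.FinitePresentation.fg_ker π hπ
  let c : Finset A₀ := S.biUnion fun v => Finset.univ.biUnion fun i => (v i).coeffs
  let R₀ : Subalgebra ℤ A₀ := Algebra.adjoin ℤ (c : Set A₀)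
  have : Algebra.FiniteType ℤ R₀ := (Subalgebra.fg_iff_finiteType R₀).1 (Subalgebra.fg_adjoin_finset c)
  have hn : IsNoetherianRing R₀ := Algebra.FiniteType.isNoetherianRing ℤ R₀
  have hGdesc : ∀ v ∈ S, ∃ w : V a n R₀, mapV (algebraMap R₀ A₀) w = v := by
    intro v hv
    have : ∀ i, ∃ q : MvPolynomial (Fin n) R₀, MvPolynomial.map (algebraMap R₀ A₀) q = v i := fun i =>
      MvPolynomial.mem_range_map_iff_coeffs_subset.2 fun x hx =>
        ⟨⟨x, Algebra.subset_adjoin (Finset.mem_biUnion.2 ⟨v, hv, Finset.mem_biUnion.2 ⟨i, Finset.mem_univ _, hx⟩⟩)⟩, rfl⟩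
    choose w hw using this
    exact ⟨w, funext hw⟩
  choose! lv hlv using hGdesc
  let K₀ : Submodule (MvPolynomial (Fin n) R₀) (V a n R₀) := Submodule.span _ (lv '' S)
  have hker : LinearMap.ker π = KK K₀ A₀ := by
    apply le_antisymm
    · rw [← hS, Submodule.span_le]
      intro v hv
      exact Submodule.subset_span ⟨lv v, Submodule.subset_span ⟨v, hv, rfl⟩, hlv v hv⟩
    · rw [KK, Submodule.span_le]
      rintro _ ⟨w, hw, rfl⟩
      refine Submodule.span_le.2 ?_ (mapV_mem_span (algebraMap R₀ A₀) hw)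
      rintro _ ⟨w, ⟨v, hv, rfl⟩, rfl⟩
      rw [hlv v hv]
      exact hS.le (Submodule.subset_span hv)
  exact ⟨a, R₀, hn, K₀, ⟨(Submodule.quotEquivOfEq _ (LinearMap.ker (π.restrictScalars A₀))
    (by rw [LinearMap.ker_restrictScalars, hker])).trans ((π.restrictScalars A₀).quotKerEquivOfSurjective hπ)⟩⟩

theorem flat_of_integral_injective {R S : Type u} [CommRing R] [CommRing S] [Algebra R S]
    [Algebra.IsIntegral R S] (hinj : Function.Injective (algebraMap R S)) {n : ℕ}
    (M : Type u) [AddCommGroup M] [Module (MvPolynomial (Fin n) R) M] [Module R M]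
    [IsScalarTower R (MvPolynomial (Fin n) R) M] [Module.FinitePresentation (MvPolynomial (Fin n) R) M]
    [Module.Flat S (S ⊗[R] M)] : Module.Flat R M := by
  obtain ⟨a, R₀, hR₀, K₀, ⟨e⟩⟩ := exists_quot_equiv (A₀ := R) (n := n) M
  obtain ⟨e'⟩ := nonempty_quot_baseChange (R := R) (R' := S) K₀
  haveI : Module.Flat S (Quot' K₀ S) :=
    Module.Flat.of_linearEquiv (e'.symm.trans (e.baseChange R S _ _))
  haveI := flat_quot_descend K₀ hinj ((flat_quot_iff K₀ S).2 this)
  exact Module.Flat.of_linearEquiv e.symm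

end Groth.Agent.H1IntFlat
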