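import Groth.Agent.H1IntFlat.Pres
import Groth.Agent.FlatLocus.Basic
import Mathlib.AlgebraicGeometry.Morphisms.UniversallyClosed
import Mathlib.AlgebraicGeometry.Morphisms.Integral

/-!
Flatness at a point descends along injective integral maps of the base.
-/

set_option autoImplicit false
set_option linter.style.haveILetI false
universe u

open CategoryTheory CategoryTheory.Limits AlgebraicGeometry TensorProduct

namespace Groth.Agent.H1IntFlat

theorem flat_alg {R S B : Type u} [CommRing R] [CommRing S] [CommRing B] [Algebra R S] [Algebra R B]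
    [Algebra.IsIntegral R S] [Algebra.FinitePresentation R B] (hinj : Function.Injective (algebraMap R S))
    [Module.Flat S (S ⊗[R] B)] : Module.Flat R B := by
  obtain ⟨n, φ, hφ, hker⟩ := Algebra.FinitePresentation.out (R := R) (A := B)
  letI := φ.toRingHom.toAlgebra
  haveI : IsScalarTower R (MvPolynomial (Fin n) R) B := IsScalarTower.of_algebraMap_eq fun r => (φ.commutes r).symm
  haveI : Module.FinitePresentation (MvPolynomial (Fin n) R) B :=
    Module.finitePresentation_of_surjective (Algebra.linearMap (MvPolynomial (Fin n) R) B) hφ hker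
  exact flat_of_integral_injective (S := S) hinj (n := n) B

theorem flat_Spec_map {A A' : Type u} [CommRing A] [CommRing A'] [Algebra A A'] [Algebra.IsIntegral A A']
    (hinj : Function.Injective (algebraMap A A')) {B : CommRingCat.{u}} (φ : CommRingCat.of A ⟶ B)
    (hφ : φ.hom.FinitePresentation)
    (h : Flat (pullback.snd (Spec.map φ) (Spec.map (CommRingCat.ofHom (algebraMap A A'))))) :
    Flat (Spec.map φ) := by
  letI : Algebra A B := φ.hom.toAlgebra
  haveI : Algebra.FinitePresentation A B := hφ
  have h1 : Flat (Spec.map (CommRingCat.ofHom (R := A') (S := B ⊗[A] A')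
      (Algebra.TensorProduct.includeRight : A' →ₐ[A] B ⊗[A] A').toRingHom)) := by
    have e := pullbackSpecIso_inv_snd A B A'
    rw [show (Spec.map (CommRingCat.ofHom (R := A') (S := B ⊗[A] A')
      (Algebra.TensorProduct.includeRight : A' →ₐ[A] B ⊗[A] A').toRingHom)) = _ from e.symm]
    haveI : MorphismProperty.RespectsIso (@Flat : MorphismProperty Scheme.{u}) :=
      MorphismProperty.IsStableUnderBaseChange.respectsIso
    exact (MorphismProperty.cancel_left_of_respectsIso @Flat _ _).2 h
  rw [Flat.SpecMap_iff] at h1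
  have h2 : (algebraMap A' (A' ⊗[A] B)).Flat := by
    have h1' : (Algebra.TensorProduct.includeRight : A' →ₐ[A] B ⊗[A] A').toRingHom.Flat := h1
    have h3 := h1'.comp (RingHom.Flat.of_bijective
      (f := (Algebra.TensorProduct.comm A B A').toRingEquiv.toRingHom) (AlgEquiv.bijective _))
    convert h3 using 1
    ext x; rfl
  haveI : Module.Flat A' (A' ⊗[A] B) := RingHom.flat_algebraMap_iff.1 h2
  rw [Flat.SpecMap_iff]
  exact (flat_alg (S := A') (B := B) hinj :)

theorem flat_stalkMap {A A' : Type u} [CommRing A] [CommRing A'] [Algebra A A'] [Algebra.IsIntegral A A']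
    (hinj : Function.Injective (algebraMap A A')) {X : Scheme.{u}} (f : X ⟶ Spec (CommRingCat.of A))
    [LocallyOfFinitePresentation f] (x : X)
    (h : ∀ x' : ↥(pullback f (Spec.map (CommRingCat.ofHom (algebraMap A A')))),
      (pullback.fst f _).base x' = x →
      ((pullback.snd f (Spec.map (CommRingCat.ofHom (algebraMap A A')))).stalkMap x').hom.Flat) :
    (f.stalkMap x).hom.Flat := by
  let g := Spec.map (CommRingCat.ofHom (algebraMap A A'))
  haveI : IsIntegralHom g := IsIntegralHom.SpecMap_iff.2 (algebraMap_isIntegral_iff.2 inferInstance)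
  let Z : Set ↥(pullback f g) := {x' | ((pullback.snd f g).stalkMap x').hom.Flat}ᶜ
  have hZ : IsClosed Z := (FlatLocus.isOpen_flat_locus (pullback.snd f g)).isClosed_compl
  have hx : x ∉ (pullback.fst f g) '' Z := by
    rintro ⟨x', hx', hxx⟩
    exact hx' (h x' hxx)
  obtain ⟨W, hW, hxW, hWZ⟩ := exists_isAffineOpen_mem_and_subset (x := x)
    (U := ⟨((pullback.fst f g) '' Z)ᶜ, ((pullback.fst f g).isClosedMap _ hZ).isOpen_compl⟩) hx
  obtain ⟨φ, hφ⟩ : ∃ φ, Spec.map φ = hW.fromSpec ≫ f := ⟨_, Spec.map_preimage _⟩
  have hfp : φ.hom.FinitePresentation := by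
    rw [← LocallyOfFinitePresentation.SpecMap_iff, hφ]
    infer_instance
  have hflat : Flat (Spec.map φ) := by
    refine flat_Spec_map hinj φ hfp ?_
    refine Flat.of_stalkMap _ fun t => ?_
    let m : pullback (Spec.map φ) g ⟶ pullback f g :=
      pullback.map _ _ _ _ hW.fromSpec (𝟙 _) (𝟙 _) (by rw [Category.comp_id, hφ]) (by rw [Category.comp_id, Category.id_comp])
    haveI : IsOpenImmersion m := inferInstance
    have hm : m t ∉ Z := fun hz => by
      have h1 : (pullback.fst f g) (m t) ∈ W := by
        have h2 : m ≫ pullback.fst f g = pullback.fst _ _ ≫ hW.fromSpec := pullback.lift_fst _ _ _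
        rw [← Scheme.Hom.comp_apply, h2, Scheme.Hom.comp_apply]
        exact hW.range_fromSpec.le ⟨_, rfl⟩
      exact hWZ h1 ⟨m t, hz, rfl⟩
    have h3 : ((m ≫ pullback.snd f g).stalkMap t).hom.Flat := by
      rw [Scheme.Hom.stalkMap_comp]
      exact (not_not.1 hm : ((pullback.snd f g).stalkMap (m t)).hom.Flat).comp
        (RingHom.Flat.of_bijective (f := (m.stalkMap t).hom) (ConcreteCategory.bijective_of_isIso (m.stalkMap t)))
    have h4 : m ≫ pullback.snd f g = pullback.snd (Spec.map φ) g := by
      rw [pullback.lift_snd, Category.comp_id]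
    rw [h4] at h3
    exact h3
  obtain ⟨q, rfl⟩ : x ∈ Set.range hW.fromSpec := by rw [hW.range_fromSpec]; exact hxW
  have h5 := Flat.stalkMap (Spec.map φ) q
  rw [hφ, Scheme.Hom.stalkMap_comp] at h5
  exact (FlatLocus.flat_comp_isIso _ _).1 h5

end Groth.Agent.H1IntFlat
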